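import Groth.Prelude.Def_W4bk4git07Quot
import Mathlib.AlgebraicGeometry.PullbackCarrier
import Mathlib.AlgebraicGeometry.Restrict
import Mathlib.AlgebraicGeometry.Cover.Open

/-!
# Mumford's criterion for categorical quotients
-/

set_option autoImplicit false
set_option backward.isDefEq.respectTransparency false
set_option backward.isDefEq.respectTransparency.types false

universe u

open CategoryTheory MonoidalCategory CartesianMonoidalCategory MonObj AlgebraicGeometry Topology
open TopologicalSpace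

noncomputable section

namespace GITQuotLib

theorem appLE_congr_hom {A B : Scheme.{u}} {f g : A ⟶ B} (e : f = g) {U : B.Opens} {V : A.Opens}
    (h : V ≤ f ⁻¹ᵁ U) (h' : V ≤ g ⁻¹ᵁ U) : f.appLE U V h = g.appLE U V h' := by
  subst e; rfl

/-- A surjective morphism which is injective on all sections is an epimorphism. -/
theorem epi_of_surjective {X Y : Scheme.{u}} (φ : X ⟶ Y) (hs : Function.Surjective φ)
    (hi : ∀ U : Y.Opens, Function.Injective (φ.app U)) : Epi φ := by
  constructor
  intro Z f g e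
  have hb : f.base = g.base := by
    refine TopCat.ext fun y => ?_
    obtain ⟨x, rfl⟩ := hs y
    exact congrArg (fun m : X ⟶ Z => m x) e
  refine Scheme.Hom.ext hb fun U => ?_
  haveI : Mono (φ.app (g ⁻¹ᵁ U)) := ConcreteCategory.mono_of_injective _ (hi _)
  rw [← cancel_mono (φ.app (g ⁻¹ᵁ U))]
  simp only [Scheme.Hom.app_eq_appLE, Scheme.Hom.appLE_map, Scheme.Hom.appLE_comp_appLE]
  exact appLE_congr_hom e _ _

theorem epi_restrict {X Y : Scheme.{u}} (φ : X ⟶ Y) (hs : Function.Surjective φ)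
    (hi : ∀ U : Y.Opens, Function.Injective (φ.app U)) (O : Y.Opens) : Epi (φ ∣_ O) := by
  refine epi_of_surjective _ (fun v => ?_) fun V => ?_
  · obtain ⟨x, hx⟩ := hs (O.ι v)
    refine ⟨⟨x, ?_⟩, ?_⟩
    · show φ x ∈ O
      rw [hx]
      exact v.2
    · apply O.ι.isOpenEmbedding.injective
      rw [← Scheme.Hom.comp_apply, morphismRestrict_ι, Scheme.Hom.comp_apply]
      exact hx
  · intro t₁ t₂ e
    rw [morphismRestrict_app, CommRingCat.comp_apply, CommRingCat.comp_apply] at e
    exact hi _ (((ConcreteCategory.isIso_iff_bijective _).mp inferInstance).1 e)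

/-- Lifting of a ring map through an injective one containing its image. -/
theorem exists_lift_ring {R A B : CommRingCat.{u}} (i : A ⟶ B) (hi : Function.Injective i) (f : R ⟶ B)
    (h : ∀ r, f r ∈ Set.range i) : ∃ g : R ⟶ A, g ≫ i = f := by
  choose g hg using h
  refine ⟨CommRingCat.ofHom
    { toFun := g
      map_one' := hi (by rw [hg, map_one, map_one])
      map_mul' := fun r s => hi (by rw [hg, map_mul, map_mul, hg, hg])
      map_zero' := hi (by rw [hg, map_zero, map_zero])
      map_add' := fun r s => hi (by rw [hg, map_add, map_add, hg, hg]) }, ?_⟩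
  ext r
  exact hg r

variable {S : Scheme.{u}} {G X Y : Over S} [GrpObj G] {a : AlgGrp.Action G X} {φ : X ⟶ Y}

/-- Pullbacks of functions along an invariant morphism are invariant. -/
theorem isInvSection_appLE {Z : Over S} {ψ : X ⟶ Z} (hψ : GIT.IsInvariant a ψ) {U : Y.left.Opens}
    {V : Z.left.Opens} (h : φ.left ⁻¹ᵁ U ≤ ψ.left ⁻¹ᵁ V) (v : Γ(Z.left, V)) :
    GIT.IsInvSection a φ U (ψ.left.appLE V (φ.left ⁻¹ᵁ U) h v) := by
  unfold GIT.IsInvSection
  rw [← CommRingCat.comp_apply, ← CommRingCat.comp_apply, Scheme.Hom.appLE_comp_appLE,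
    Scheme.Hom.appLE_comp_appLE]
  exact congrArg (fun m : Γ(Z.left, V) ⟶ _ => m v) (appLE_congr_hom hψ.left _ _)

/-- Mumford's criterion. -/
theorem isCatQuot (hinv : GIT.IsInvariant a φ)
    (hsec : ∀ U : Y.left.Opens,
      Function.Injective (φ.left.app U) ∧ Set.range (φ.left.app U) = {f | GIT.IsInvSection a φ U f})
    (hcl : ∀ W : Set X.left, IsClosed W → (∀ p, (snd G X).left p ∈ W → a.act.left p ∈ W) →
      IsClosed (φ.left '' W))
    (hint : ∀ (J : Type u) (W : J → Set X.left), (∀ i, IsClosed (W i)) →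
      (∀ i p, (snd G X).left p ∈ W i → a.act.left p ∈ W i) → φ.left '' (⋂ i, W i) = ⋂ i, φ.left '' W i) :
    GIT.IsCatQuot a φ ∧ IsQuotientMap φ.left := by
  have hs : Function.Surjective φ.left := by
    intro y
    have e := hint PEmpty (fun j => j.elim) (fun j => j.elim) (fun j => j.elim)
    rw [Set.iInter_of_empty, Set.iInter_of_empty] at e
    obtain ⟨z, -, hz⟩ := e.symm.subset (Set.mem_univ y)
    exact ⟨z, hz⟩
  have hi := fun U => (hsec U).1
  haveI hepi : Epi φ.left := epi_of_surjective _ hs hi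
  refine ⟨⟨hinv, fun Z ψ hψ => ?_⟩, ?_⟩
  · choose V hV hzV _hle using fun z : Z.left =>
      exists_isAffineOpen_mem_and_subset (U := (⊤ : Z.left.Opens)) (x := z) trivial
    let W : Z.left → Set X.left := fun z => (ψ.left ⁻¹' (V z : Set Z.left))ᶜ
    have hWc : ∀ z, IsClosed (W z) := fun z =>
      ((V z).isOpen.preimage ψ.left.continuous).isClosed_compl
    have hWi : ∀ z p, (snd G X).left p ∈ W z → a.act.left p ∈ W z := by
      intro z p hp
      simp only [W, Set.mem_compl_iff, Set.mem_preimage, ← Scheme.Hom.comp_apply, hψ.left] at hp ⊢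
      exact hp
    let U : Z.left → Y.left.Opens := fun z =>
      ⟨(φ.left '' W z)ᶜ, (hcl _ (hWc z) (hWi z)).isOpen_compl⟩
    have hUV : ∀ z, φ.left ⁻¹ᵁ U z ≤ ψ.left ⁻¹ᵁ V z := fun z x hx => by
      by_contra hn
      exact hx ⟨x, hn, rfl⟩
    have hU : IsOpenCover U := by
      refine IsOpenCover.mk (TopologicalSpace.Opens.ext ?_)
      rw [Opens.coe_iSup, Opens.coe_top, Set.eq_univ_iff_forall]
      intro y
      have hW0 : ⋂ z, W z = ∅ := Set.eq_empty_iff_forall_notMem.mpr fun x hx =>
        Set.mem_iInter.mp hx (ψ.left x) (hzV (ψ.left x))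
      have e := hint _ W hWc hWi
      rw [hW0, Set.image_empty] at e
      by_contra hn
      simp only [Set.mem_iUnion, not_exists] at hn
      exact (e.symm.subset (Set.mem_iInter.mpr fun z => not_not.mp (hn z)) : y ∈ (∅ : Set Y.left))
    have hr : ∀ z, ∃ r : Γ(Z.left, V z) ⟶ Γ(Y.left, U z),
        r ≫ φ.left.app (U z) = ψ.left.appLE (V z) _ (hUV z) := fun z =>
      exists_lift_ring _ (hi _) _ fun v => by
        rw [(hsec (U z)).2]
        exact isInvSection_appLE hψ (hUV z) v
    choose r hr using hr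
    let χ : ∀ z, (U z).toScheme ⟶ Z.left := fun z =>
      (U z).toSpecΓ ≫ Spec.map (r z) ≫ (hV z).fromSpec
    have hχ : ∀ z, (φ.left ∣_ U z) ≫ χ z = (φ.left ⁻¹ᵁ U z).ι ≫ ψ.left := by
      intro z
      simp only [χ]
      rw [← Scheme.Hom.resLE_eq_morphismRestrict, ← Category.assoc, ← Scheme.Opens.toSpecΓ_SpecMap_appLE,
        Category.assoc, ← Category.assoc (Spec.map _) (Spec.map _), ← Spec.map_comp, ← Scheme.Hom.app_eq_appLE,
        hr z, ← Category.assoc, Scheme.Opens.toSpecΓ_SpecMap_appLE, Category.assoc,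
        IsAffineOpen.toSpecΓ_fromSpec, Scheme.Hom.resLE_comp_ι]
    have hcomp : ∀ i j, X.left.homOfLE (φ.left.preimage_mono (inf_le_left : U i ⊓ U j ≤ U i)) ≫ (φ.left ∣_ U i) =
          (φ.left ∣_ (U i ⊓ U j)) ≫ Y.left.homOfLE inf_le_left ∧
        X.left.homOfLE (φ.left.preimage_mono (inf_le_right : U i ⊓ U j ≤ U j)) ≫ (φ.left ∣_ U j) =
          (φ.left ∣_ (U i ⊓ U j)) ≫ Y.left.homOfLE inf_le_right := by
      intro i j
      constructor <;>
      · rw [← cancel_mono (Scheme.Opens.ι _), Category.assoc, Category.assoc, morphismRestrict_ι,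
          Scheme.homOfLE_ι, Scheme.homOfLE_ι_assoc, morphismRestrict_ι]
    clear_value χ
    let 𝒰 : Y.left.OpenCover := Y.left.openCoverOfIsOpenCover U hU
    let χ' : Y.left ⟶ Z.left := 𝒰.glueMorphisms χ fun i j => by
      haveI := epi_restrict φ.left hs hi (U i ⊓ U j)
      have e0 : Y.left.homOfLE (inf_le_left : U i ⊓ U j ≤ U i) ≫ χ i =
          Y.left.homOfLE (inf_le_right : U i ⊓ U j ≤ U j) ≫ χ j := by
        rw [← cancel_epi (φ.left ∣_ (U i ⊓ U j)), ← Category.assoc, ← (hcomp i j).1, ← Category.assoc,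
          ← (hcomp i j).2, Category.assoc, Category.assoc, hχ, hχ, Scheme.homOfLE_ι_assoc,
          Scheme.homOfLE_ι_assoc]
      show Limits.pullback.fst (U i).ι (U j).ι ≫ χ i = Limits.pullback.snd (U i).ι (U j).ι ≫ χ j
      rw [← cancel_epi (isPullback_opens_inf (U i) (U j)).isoPullback.hom,
        IsPullback.isoPullback_hom_fst_assoc, IsPullback.isoPullback_hom_snd_assoc]
      exact e0
    have hfac : φ.left ≫ χ' = ψ.left := by
      have hXU : IsOpenCover fun z => φ.left ⁻¹ᵁ U z := hU.comap φ.left.base.hom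
      refine (X.left.openCoverOfIsOpenCover _ hXU).hom_ext _ _ fun z => ?_
      show (φ.left ⁻¹ᵁ U z).ι ≫ φ.left ≫ χ' = (φ.left ⁻¹ᵁ U z).ι ≫ ψ.left
      rw [← morphismRestrict_ι_assoc, ← hχ z]
      congr 1
      exact 𝒰.ι_glueMorphisms _ _ z
    have hover : χ' ≫ Z.hom = Y.hom := by
      rw [← cancel_epi φ.left, ← Category.assoc, hfac, Over.w, Over.w]
    refine ⟨Over.homMk χ' hover, Over.OverMorphism.ext hfac, fun χ₂ hχ₂ => ?_⟩
    refine Over.OverMorphism.ext ?_
    show χ₂.left = χ'
    rw [← cancel_epi φ.left, hfac, ← hχ₂, Over.comp_left]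
  · refine isQuotientMap_iff_isClosed.mpr
      ⟨hs, fun s => ⟨fun h => h.preimage φ.left.continuous, fun h => ?_⟩⟩
    have h' := hcl _ h (fun p hp => by
      simp only [Set.mem_preimage, ← Scheme.Hom.comp_apply, hinv.left] at hp ⊢
      exact hp)
    rwa [Set.image_preimage_eq s hs] at h'

/-- Saturation of invariant sets in a geometric quotient. -/
theorem preimage_image (h : GIT.IsGeomQuot a φ) {W : Set X.left}
    (hW : ∀ p, (snd G X).left p ∈ W → a.act.left p ∈ W) : φ.left ⁻¹' (φ.left '' W) = W := by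
  refine Set.Subset.antisymm ?_ (Set.subset_preimage_image _ _)
  rintro x ⟨w, hw, hwx⟩
  obtain ⟨q, hq1, hq2⟩ := Scheme.Pullback.exists_preimage_pullback (f := φ.left) (g := φ.left) x w hwx.symm
  obtain ⟨p, hp⟩ := h.orbit q
  have h1 : a.act.left p = x := by
    rw [← hq1, ← hp, ← Scheme.Hom.comp_apply, GIT.PsiY, Limits.pullback.lift_fst]
  have h2 : (snd G X).left p = w := by
    rw [← hq2, ← hp, ← Scheme.Hom.comp_apply, GIT.PsiY, Limits.pullback.lift_snd]
  rw [← h1]
  exact hW p (h2.symm ▸ hw)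

theorem isQuotientMap_of_isUnivSubmersive {A B : Scheme.{u}} {f : A ⟶ B} (h : GIT.IsUnivSubmersive f) :
    IsQuotientMap f :=
  MorphismProperty.universally_le (topologically @IsQuotientMap) _ h

/-- Geometric quotients are categorical. -/
theorem isCatQuot_of_isGeomQuot (h : GIT.IsGeomQuot a φ) : GIT.IsCatQuot a φ := by
  refine (isCatQuot h.inv h.sections (fun W hW hi => ?_) fun J W hW hi => ?_).1
  · rw [← (isQuotientMap_of_isUnivSubmersive h.subm).isClosed_preimage, preimage_image h hi]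
    exact hW
  · refine Set.Subset.antisymm (Set.image_iInter_subset _ _) fun y hy => ?_
    obtain ⟨x, rfl⟩ := h.surj y
    refine ⟨x, Set.mem_iInter.mpr fun j => ?_, rfl⟩
    exact (preimage_image h (hi j)).subset (Set.mem_iInter.mp hy j)

end GITQuotLib
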