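import Groth.Agent.GITQuotLib.Cat
import Groth.Agent.FinHomLib.Affine
import Mathlib.AlgebraicGeometry.AffineSpace
import Mathlib.AlgebraicGeometry.Limits
import Mathlib.AlgebraicGeometry.ResidueField
import Mathlib.CategoryTheory.Limits.Constructions.Over.Basic

/-!
# Universal categorical quotients
-/

set_option autoImplicit false
set_option backward.isDefEq.respectTransparency false
set_option backward.isDefEq.respectTransparency.types false

universe u

open CategoryTheory MonoidalCategory CartesianMonoidalCategory MonObj AlgebraicGeometry Topology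

noncomputable section

namespace GITQuotLib

variable {S : Scheme.{u}} {G X Y X' Y' : Over S} [GrpObj G] {a : AlgGrp.Action G X} {φ : X ⟶ Y}
  {pr : X' ⟶ X} {φ' : X' ⟶ Y'} {g : Y' ⟶ Y}

/-- The induced action on a base change. -/
theorem exists_action (hinv : GIT.IsInvariant a φ) (sq : IsPullback pr φ' φ g) :
    ∃ a' : AlgGrp.Action G X', a'.act ≫ pr = (G ◁ pr) ≫ a.act ∧ GIT.IsInvariant a' φ' := by
  have hc : ((G ◁ pr) ≫ a.act) ≫ φ = (snd G X' ≫ φ') ≫ g := by
    rw [Category.assoc, show a.act ≫ φ = snd G X ≫ φ from hinv, whiskerLeft_snd_assoc, sq.w, Category.assoc]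
  refine ⟨⟨sq.lift _ _ hc, ?_, ?_⟩, sq.lift_fst _ _ hc, sq.lift_snd _ _ hc⟩
  · refine sq.hom_ext ?_ ?_
    · rw [Category.assoc, sq.lift_fst, ← whisker_exchange_assoc, a.one_act, leftUnitor_naturality]
    · rw [Category.assoc, sq.lift_snd, whiskerRight_snd_assoc, leftUnitor_hom]
  · refine sq.hom_ext ?_ ?_
    · have e : (G ◁ sq.lift _ _ hc) ≫ (G ◁ pr) = (G ◁ (G ◁ pr)) ≫ (G ◁ a.act) := by
        rw [← MonoidalCategory.whiskerLeft_comp, sq.lift_fst, MonoidalCategory.whiskerLeft_comp]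
      simp only [Category.assoc, sq.lift_fst]
      rw [← whisker_exchange_assoc, a.mul_act, reassoc_of% e, associator_naturality_right_assoc]
    · simp only [Category.assoc, sq.lift_snd, whiskerRight_snd_assoc, whiskerLeft_snd_assoc,
        associator_hom_snd_snd_assoc]

/-- Base changes of universal categorical quotients are universal categorical quotients. -/
theorem univCat_baseChange (h : GIT.IsUnivCatQuot a φ) (sq : IsPullback pr φ' φ g) (a' : AlgGrp.Action G X')
    (he : a'.act ≫ pr = (G ◁ pr) ≫ a.act) (hi : GIT.IsInvariant a' φ') : GIT.IsUnivCatQuot a' φ' := by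
  refine ⟨h.2 pr φ' g trivial sq a' he hi, fun X'' Y'' pr' φ'' g' _ sq' a'' he' hi' => ?_⟩
  refine h.2 (pr' ≫ pr) φ'' (g' ≫ g) trivial (sq'.paste_horiz sq) a'' ?_ hi'
  rw [← Category.assoc, he', Category.assoc, he, ← Category.assoc, MonoidalCategory.whiskerLeft_comp]

/-- A universal categorical quotient is surjective. -/
theorem univCat_surjective (h : GIT.IsUnivCatQuot a φ) : Function.Surjective φ.left := by
  intro y
  by_contra hn
  let T : Over S := Over.mk (Y.left.fromSpecResidueField y ≫ Y.hom)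
  let g : T ⟶ Y := Over.homMk (Y.left.fromSpecResidueField y)
  have sq := IsPullback.of_hasPullback φ g
  obtain ⟨a', he, hi⟩ := exists_action h.1.1 sq
  haveI : IsEmpty (Limits.pullback φ g).left := ⟨fun x => hn ⟨(Limits.pullback.fst φ g).left x, by
    rw [← Scheme.Hom.comp_apply, ← Over.comp_left, Limits.pullback.condition, Over.comp_left,
      Scheme.Hom.comp_apply]
    exact Scheme.fromSpecResidueField_apply y _⟩⟩
  haveI : IsEmpty (G ⊗ Limits.pullback φ g).left :=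
    ⟨fun x => isEmptyElim ((snd G (Limits.pullback φ g)).left x)⟩
  let Z : Over S := Over.mk (Scheme.emptyTo S)
  let ψ : Limits.pullback φ g ⟶ Z := Over.homMk (isInitialOfIsEmpty.to _)
    (isInitialOfIsEmpty.hom_ext _ _)
  obtain ⟨χ, -, -⟩ := (h.2 _ _ g trivial sq a' he hi).2 Z ψ
    (Over.OverMorphism.ext (isInitialOfIsEmpty.hom_ext _ _))
  haveI : IsEmpty Z.left := inferInstanceAs (IsEmpty (∅ : Scheme.{u}))
  obtain ⟨t⟩ : Nonempty T.left := inferInstanceAs (Nonempty (PrimeSpectrum (Y.left.residueField y)))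
  exact isEmptyElim (χ.left t)

theorem appLE_bij {A B : Scheme.{u}} (j : A ⟶ B) [IsOpenImmersion j] {W : B.Opens} {W' : A.Opens}
    (h : W' = j ⁻¹ᵁ W) (hW : W ≤ j.opensRange) : Function.Bijective (j.appLE W W' h.le) := by
  subst h
  haveI := Scheme.Hom.isIso_app j W hW
  rw [← Scheme.Hom.app_eq_appLE]
  exact (ConcreteCategory.isIso_iff_bijective _).mp inferInstance

theorem appLE_sq {A B C D : Scheme.{u}} (f : A ⟶ B) (g : B ⟶ D) (f' : A ⟶ C) (g' : C ⟶ D)
    (e : f ≫ g = f' ≫ g') {U : D.Opens} {VB : B.Opens} {VC : C.Opens} {W : A.Opens} (h1 : VB ≤ g ⁻¹ᵁ U)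
    (h2 : W ≤ f ⁻¹ᵁ VB) (h3 : VC ≤ g' ⁻¹ᵁ U) (h4 : W ≤ f' ⁻¹ᵁ VC) (s : Γ(D, U)) :
    f.appLE VB W h2 (g.appLE U VB h1 s) = f'.appLE VC W h4 (g'.appLE U VC h3 s) := by
  rw [← CommRingCat.comp_apply, ← CommRingCat.comp_apply, Scheme.Hom.appLE_comp_appLE,
    Scheme.Hom.appLE_comp_appLE]
  exact congrArg (fun m : Γ(D, U) ⟶ Γ(A, W) => m s) (appLE_congr_hom e _ _)

/-- Global invariant functions descend uniquely along a categorical quotient. -/
theorem catQuot_appTop (h : GIT.IsCatQuot a φ) :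
    Function.Injective φ.left.appTop ∧
      Set.range φ.left.appTop = {f | a.act.left.appTop f = (snd G X).left.appTop f} := by
  let A : Over S := Over.mk (𝔸(PUnit.{u + 1}; S) ↘ S)
  let F : ∀ (T : Over S), Γ(T.left, ⊤) → (T ⟶ A) := fun T t =>
    Over.homMk (AffineSpace.homOfVector T.hom fun _ => t) (AffineSpace.homOfVector_over _ _)
  have hF : ∀ (T : Over S) (t : Γ(T.left, ⊤)),
      (F T t).left.appTop (AffineSpace.coord S PUnit.unit) = t := fun T t =>
    AffineSpace.homOfVector_appTop_coord _ _ _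
  have hF' : ∀ (T : Over S) (m m' : T ⟶ A),
      m.left.appTop (AffineSpace.coord S PUnit.unit) = m'.left.appTop (AffineSpace.coord S PUnit.unit) →
        m = m' := fun T m m' e =>
    Over.OverMorphism.ext (AffineSpace.hom_ext ((Over.w m).trans (Over.w m').symm) fun _ => e)
  have hc : ∀ {T T' : Over S} (p : T' ⟶ T) (m : T ⟶ A),
      (p ≫ m).left.appTop (AffineSpace.coord S PUnit.unit) =
        p.left.appTop (m.left.appTop (AffineSpace.coord S PUnit.unit)) := by
    intro T T' p m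
    rw [Over.comp_left, Scheme.Hom.comp_appTop, CommRingCat.comp_apply]
  have hinv : ∀ f : Γ(X.left, ⊤), a.act.left.appTop f = (snd G X).left.appTop f →
      GIT.IsInvariant a (F X f) := by
    intro f hf
    refine hF' _ _ _ ?_
    rw [hc, hc, hF]
    exact hf
  have hφ : ∀ t, a.act.left.appTop (φ.left.appTop t) = (snd G X).left.appTop (φ.left.appTop t) := by
    intro t
    rw [← CommRingCat.comp_apply, ← CommRingCat.comp_apply, ← Scheme.Hom.comp_appTop,
      ← Scheme.Hom.comp_appTop, h.1.left]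
  constructor
  · intro t₁ t₂ e
    obtain ⟨χ, -, hu⟩ := h.2 A (F X (φ.left.appTop t₁)) (hinv _ (hφ t₁))
    have e₁ : F Y t₁ = χ := hu _ (hF' _ _ _ (by rw [hc, hF, hF]))
    have e₂ : F Y t₂ = χ := hu _ (hF' _ _ _ (by rw [hc, hF, hF, e]))
    rw [← hF Y t₁, ← hF Y t₂, e₁, e₂]
  · ext f
    constructor
    · rintro ⟨t, rfl⟩
      exact hφ t
    · intro hf
      obtain ⟨χ, hχ, -⟩ := h.2 A (F X f) (hinv f hf)
      refine ⟨χ.left.appTop (AffineSpace.coord S PUnit.unit), ?_⟩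
      rw [← hc, hχ, hF]

/-- Restricting a morphism over an open of the target is a base change. -/
theorem isPullback_restrict (φ : X ⟶ Y) (U : Y.left.Opens) :
    IsPullback (Over.homMk (φ.left ⁻¹ᵁ U).ι : Over.mk ((φ.left ⁻¹ᵁ U).ι ≫ X.hom) ⟶ X)
      (Over.homMk (φ.left ∣_ U) (by
        show (φ.left ∣_ U) ≫ U.ι ≫ Y.hom = (φ.left ⁻¹ᵁ U).ι ≫ X.hom
        rw [morphismRestrict_ι_assoc, Over.w φ]) :
        Over.mk ((φ.left ⁻¹ᵁ U).ι ≫ X.hom) ⟶ Over.mk (U.ι ≫ Y.hom))
      φ (Over.homMk U.ι : Over.mk (U.ι ≫ Y.hom) ⟶ Y) :=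
  IsPullback.of_map (Over.forget S) (Over.OverMorphism.ext (morphismRestrict_ι φ.left U).symm)
    (isPullback_morphismRestrict φ.left U).flip

/-- Sections over `U` from global functions of the restriction over `U`. -/
theorem sections_of_restrict' (hinv : GIT.IsInvariant a φ) (U : Y.left.Opens)
    (hU : ∀ (X₁ U' : Over S) (pr : X₁ ⟶ X) (φ₁ : X₁ ⟶ U') (g : U' ⟶ Y), U'.left = U.toScheme →
      Set.range g.left ⊆ U →
      IsPullback pr φ₁ φ g → ∀ a₁ : AlgGrp.Action G X₁, a₁.act ≫ pr = (G ◁ pr) ≫ a.act →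
      GIT.IsInvariant a₁ φ₁ → Function.Injective φ₁.left.appTop ∧
        Set.range φ₁.left.appTop = {f | a₁.act.left.appTop f = (snd G X₁).left.appTop f}) :
    Function.Injective (φ.left.app U) ∧ Set.range (φ.left.app U) = {f | GIT.IsInvSection a φ U f} := by
  let U' : Over S := Over.mk (U.ι ≫ Y.hom)
  let X₁ : Over S := Over.mk ((φ.left ⁻¹ᵁ U).ι ≫ X.hom)
  let g : U' ⟶ Y := Over.homMk U.ι
  let pr : X₁ ⟶ X := Over.homMk (φ.left ⁻¹ᵁ U).ι
  let φ₁ : X₁ ⟶ U' := Over.homMk (φ.left ∣_ U) (by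
    show (φ.left ∣_ U) ≫ U.ι ≫ Y.hom = (φ.left ⁻¹ᵁ U).ι ≫ X.hom
    rw [morphismRestrict_ι_assoc, Over.w φ])
  have sq : IsPullback pr φ₁ φ g := isPullback_restrict φ U
  obtain ⟨a₁, he, hi⟩ := exists_action hinv sq
  obtain ⟨hinj, hrange⟩ := hU X₁ U' pr φ₁ g rfl (Scheme.Opens.range_ι U).subset sq a₁ he hi
  haveI : IsOpenImmersion pr.left := inferInstanceAs (IsOpenImmersion (φ.left ⁻¹ᵁ U).ι)
  haveI : IsOpenImmersion g.left := inferInstanceAs (IsOpenImmersion U.ι)
  have hprT : (⊤ : X₁.left.Opens) = pr.left ⁻¹ᵁ (φ.left ⁻¹ᵁ U) := ((φ.left ⁻¹ᵁ U).ι_preimage_self).symm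
  have hgT : (⊤ : U'.left.Opens) = g.left ⁻¹ᵁ U := (U.ι_preimage_self).symm
  have bj := appLE_bij pr.left hprT (Scheme.Opens.opensRange_ι _).ge
  have bι := appLE_bij g.left hgT (Scheme.Opens.opensRange_ι _).ge
  have key : ∀ s : Γ(Y.left, U), φ₁.left.appTop (g.left.appLE U ⊤ hgT.le s) =
      pr.left.appLE (φ.left ⁻¹ᵁ U) ⊤ hprT.le (φ.left.app U s) := by
    intro s
    rw [Scheme.Hom.appTop, Scheme.Hom.app_eq_appLE, Scheme.Hom.app_eq_appLE]
    exact appLE_sq _ _ _ _ (morphismRestrict_ι φ.left U) _ _ _ _ s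
  haveI := Groth.Agent.FinHom.isOpenImmersion_whiskerLeft G pr
  let Oa : (G ⊗ X).left.Opens := a.act.left ⁻¹ᵁ (φ.left ⁻¹ᵁ U) ⊓ (snd G X).left ⁻¹ᵁ (φ.left ⁻¹ᵁ U)
  have ea : (G ◁ pr).left ≫ a.act.left = a₁.act.left ≫ pr.left := (congrArg CommaMorphism.left he).symm
  have es : (G ◁ pr).left ≫ (snd G X).left = (snd G X₁).left ≫ pr.left :=
    congrArg CommaMorphism.left (whiskerLeft_snd G pr)
  have hOT : (⊤ : (G ⊗ X₁).left.Opens) = (G ◁ pr).left ⁻¹ᵁ Oa := by
    simp only [Oa, Scheme.Hom.preimage_inf, ← Scheme.Hom.comp_preimage, reassoc_of% ea, reassoc_of% es]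
    simp only [Scheme.Hom.comp_preimage, ← hprT]
    simp
  have hOa : Oa ≤ (G ◁ pr).left.opensRange := by
    intro p hp
    have h1 := Scheme.image_preimage_eq_of_isPullback
      (Groth.Agent.FinHom.isPullback_whiskerLeft G pr).flip Set.univ
    rw [Set.preimage_univ, Set.image_univ, Set.image_univ] at h1
    show p ∈ Set.range (G ◁ pr).left
    rw [h1, show Set.range pr.left = ((φ.left ⁻¹ᵁ U : X.left.Opens) : Set X.left) from Scheme.Opens.range_ι _]
    have := hp.2
    rw [Over.snd_left] at this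
    exact this
  have bg := appLE_bij (G ◁ pr).left hOT hOa
  have hinv : ∀ f₀ : Γ(X.left, φ.left ⁻¹ᵁ U), a₁.act.left.appTop (pr.left.appLE _ ⊤ hprT.le f₀) =
      (snd G X₁).left.appTop (pr.left.appLE _ ⊤ hprT.le f₀) ↔ GIT.IsInvSection a φ U f₀ := by
    intro f₀
    rw [Scheme.Hom.appTop, Scheme.Hom.appTop, Scheme.Hom.app_eq_appLE, Scheme.Hom.app_eq_appLE]
    unfold GIT.IsInvSection
    constructor
    · intro hf
      refine bg.1 ?_
      rw [appLE_sq _ _ _ _ ea (U := φ.left ⁻¹ᵁ U) (VC := ⊤) (W := ⊤) _ _ hprT.le le_top f₀,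
        appLE_sq _ _ _ _ es (U := φ.left ⁻¹ᵁ U) (VC := ⊤) (W := ⊤) _ _ hprT.le le_top f₀]
      exact hf
    · intro hf
      have h2 := congrArg ((G ◁ pr).left.appLE Oa ⊤ hOT.le) hf
      rw [appLE_sq _ _ _ _ ea (U := φ.left ⁻¹ᵁ U) (VC := ⊤) (W := ⊤) _ _ hprT.le le_top f₀,
        appLE_sq _ _ _ _ es (U := φ.left ⁻¹ᵁ U) (VC := ⊤) (W := ⊤) _ _ hprT.le le_top f₀] at h2
      exact h2
  constructor
  · intro s₁ s₂ e
    refine bι.1 (hinj ?_)
    rw [key, key, e]
  · ext f₀
    rw [Set.mem_setOf_eq, ← hinv f₀]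
    have h3 : pr.left.appLE _ ⊤ hprT.le f₀ ∈ Set.range φ₁.left.appTop ↔
        a₁.act.left.appTop (pr.left.appLE _ ⊤ hprT.le f₀) =
          (snd G X₁).left.appTop (pr.left.appLE _ ⊤ hprT.le f₀) := by
      rw [hrange]; rfl
    rw [← h3]
    constructor
    · rintro ⟨s, rfl⟩
      exact ⟨_, key s⟩
    · rintro ⟨t, ht⟩
      obtain ⟨s, rfl⟩ := bι.2 t
      rw [key] at ht
      exact ⟨s, bj.1 ht⟩

theorem sections_of_restrict (hinv : GIT.IsInvariant a φ) (U : Y.left.Opens)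
    (hU : ∀ (X₁ U' : Over S) (pr : X₁ ⟶ X) (φ₁ : X₁ ⟶ U') (g : U' ⟶ Y), U'.left = U.toScheme →
      IsPullback pr φ₁ φ g → ∀ a₁ : AlgGrp.Action G X₁, a₁.act ≫ pr = (G ◁ pr) ≫ a.act →
      GIT.IsInvariant a₁ φ₁ → Function.Injective φ₁.left.appTop ∧
        Set.range φ₁.left.appTop = {f | a₁.act.left.appTop f = (snd G X₁).left.appTop f}) :
    Function.Injective (φ.left.app U) ∧ Set.range (φ.left.app U) = {f | GIT.IsInvSection a φ U f} :=
  sections_of_restrict' hinv U fun X₁ U' pr φ₁ g e _ => hU X₁ U' pr φ₁ g e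

/-- Sections of a universal categorical quotient. -/
theorem univCat_sections (h : GIT.IsUnivCatQuot a φ) (U : Y.left.Opens) :
    Function.Injective (φ.left.app U) ∧ Set.range (φ.left.app U) = {f | GIT.IsInvSection a φ U f} :=
  sections_of_restrict h.1.1 U fun _ _ pr φ₁ g _ sq a₁ he hi => catQuot_appTop (h.2 pr φ₁ g trivial sq a₁ he hi)

/-- Surjectivity of `(σ, p₂)` survives base change. -/
theorem psiY_surjective_baseChange (hinv : GIT.IsInvariant a φ)
    (h : Function.Surjective (GIT.PsiY a φ hinv)) (sq : IsPullback pr φ' φ g) (a' : AlgGrp.Action G X')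
    (he : a'.act ≫ pr = (G ◁ pr) ≫ a.act) (hi : GIT.IsInvariant a' φ') :
    Function.Surjective (GIT.PsiY a' φ' hi) := by
  intro q
  have hw : φ'.left ≫ g.left = pr.left ≫ φ.left := (congrArg CommaMorphism.left sq.w).symm
  let l : Limits.pullback φ'.left φ'.left ⟶ Limits.pullback φ.left φ.left :=
    Limits.pullback.lift (Limits.pullback.fst φ'.left φ'.left ≫ pr.left)
      (Limits.pullback.snd φ'.left φ'.left ≫ pr.left) (by
        rw [Category.assoc, Category.assoc, ← hw, ← Category.assoc, Limits.pullback.condition,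
          Category.assoc])
  obtain ⟨g₀, hg₀⟩ := h (l q)
  obtain ⟨w, -, hwq⟩ := Scheme.Pullback.exists_preimage_pullback
    (f := GIT.PsiY a φ hinv) (g := l) g₀ q hg₀
  let f₁ := Limits.pullback.fst (GIT.PsiY a φ hinv) l
  let f₂ := Limits.pullback.snd (GIT.PsiY a φ hinv) l
  have c1 : f₁ ≫ a.act.left = f₂ ≫ Limits.pullback.fst φ'.left φ'.left ≫ pr.left := by
    have := congrArg (· ≫ Limits.pullback.fst φ.left φ.left)
      (Limits.pullback.condition (f := GIT.PsiY a φ hinv) (g := l))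
    simp only [GIT.PsiY, l, Category.assoc, Limits.pullback.lift_fst] at this
    exact this
  have c2 : f₁ ≫ (snd G X).left = f₂ ≫ Limits.pullback.snd φ'.left φ'.left ≫ pr.left := by
    have := congrArg (· ≫ Limits.pullback.snd φ.left φ.left)
      (Limits.pullback.condition (f := GIT.PsiY a φ hinv) (g := l))
    simp only [GIT.PsiY, l, Category.assoc, Limits.pullback.lift_snd] at this
    exact this
  let W : Over S := Over.mk (f₂ ≫ Limits.pullback.fst φ'.left φ'.left ≫ X'.hom)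
  let a1 : W ⟶ G ⊗ X := Over.homMk f₁ (by
    show f₁ ≫ (G ⊗ X).hom = f₂ ≫ Limits.pullback.fst φ'.left φ'.left ≫ X'.hom
    rw [← Over.w a.act, reassoc_of% c1, Over.w pr])
  let u : W ⟶ X' := Over.homMk (f₂ ≫ Limits.pullback.fst φ'.left φ'.left) (Category.assoc _ _ _)
  let v : W ⟶ X' := Over.homMk (f₂ ≫ Limits.pullback.snd φ'.left φ'.left) (by
    show (f₂ ≫ Limits.pullback.snd φ'.left φ'.left) ≫ X'.hom = f₂ ≫ Limits.pullback.fst φ'.left φ'.left ≫ X'.hom
    rw [← Over.w φ', Category.assoc, Limits.pullback.condition_assoc])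
  have hu : a1 ≫ a.act = u ≫ pr :=
    Over.OverMorphism.ext (c1.trans (Category.assoc _ _ _).symm)
  have hv : a1 ≫ snd G X = v ≫ pr :=
    Over.OverMorphism.ext (c2.trans (Category.assoc _ _ _).symm)
  have huv : u ≫ φ' = v ≫ φ' := by
    refine Over.OverMorphism.ext ?_
    show (f₂ ≫ _) ≫ φ'.left = (f₂ ≫ _) ≫ φ'.left
    rw [Category.assoc, Category.assoc, Limits.pullback.condition]
  let ξ : W ⟶ G ⊗ X' := lift (a1 ≫ fst G X) v
  have hξ : ξ ≫ a'.act = u := by
    refine sq.hom_ext ?_ ?_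
    · rw [Category.assoc, he, ← Category.assoc, ← hu]
      congr 1
      refine CartesianMonoidalCategory.hom_ext _ _ ?_ ?_
      · simp [ξ]
      · simp [ξ, hv]
    · rw [Category.assoc, show a'.act ≫ φ' = snd G X' ≫ φ' from hi, ← Category.assoc, lift_snd, huv]
  refine ⟨ξ.left w, ?_⟩
  have e : ξ.left ≫ GIT.PsiY a' φ' hi = f₂ := by
    refine Limits.pullback.hom_ext ?_ ?_
    · rw [Category.assoc, GIT.PsiY, Limits.pullback.lift_fst, ← Over.comp_left, hξ]
      rfl
    · rw [Category.assoc, GIT.PsiY, Limits.pullback.lift_snd, ← Over.comp_left, lift_snd]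
      rfl
  rw [← Scheme.Hom.comp_apply, e]
  exact hwq

end GITQuotLib
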